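import Mathlib
import Groth.Prelude.Def_CycDet

set_option autoImplicit false
universe u v

namespace Groth.Agent.DetVec8
open IsLocalRing CycDet

variable (R : Type u) [CommRing R] [IsLocalRing R] (M : Type v) [AddCommGroup M] [Module R M]
  [Module (ResidueField R) M] [IsScalarTower R (ResidueField R) M]

theorem adm {l : ℕ} (e : Fin l → M) : IsAdmissible R M e := by
  intro i r hr
  rw [show r • e i = (IsLocalRing.residue R r) • e i from (algebraMap_smul (ResidueField R) r (e i)).symm,
    (IsLocalRing.residue_eq_zero_iff r).mpr hr, zero_smul]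
  exact Submodule.zero_mem _

noncomputable def s {l : ℕ} (e : Fin l → M) : DetOfLen R M l := Submodule.Quotient.mk (sym R M ⟨e, adm R M e⟩)

theorem mem_spanBefore {l : ℕ} (e : Fin l → M) (a : ℕ) (x : M)
    (hx : x ∈ Submodule.span (ResidueField R) (e '' {j : Fin l | (j : ℕ) < a})) : x ∈ spanBefore R M e a := by
  induction hx using Submodule.span_induction with
  | mem x h => exact Submodule.subset_span h
  | zero => exact Submodule.zero_mem _
  | add x y _ _ hx hy => exact Submodule.add_mem _ hx hy
  | smul c x _ hx =>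
    obtain ⟨r, rfl⟩ := IsLocalRing.residue_surjective c
    rw [show (IsLocalRing.residue R r) • x = r • x from algebraMap_smul (ResidueField R) r x]
    exact Submodule.smul_mem _ _ hx

theorem s_zero {l : ℕ} (e : Fin l → M) (a : Fin l)
    (h : e a ∈ Submodule.span (ResidueField R) (e '' {j : Fin l | (j : ℕ) < a})) : s R M e = 0 := by
  unfold s
  rw [Submodule.Quotient.mk_eq_zero]
  exact Submodule.subset_span (Or.inl (Or.inl ⟨⟨e, adm R M e⟩, a, mem_spanBefore R M e (a : ℕ) (e a) h, rfl⟩))

theorem s_replace {l : ℕ} (e e' : Fin l → M) (a : Fin l) (c : ResidueField R) (hc : c ≠ 0) (he : ∀ j, j ≠ a → e j = e' j)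
    (h : e a - c • e' a ∈ Submodule.span (ResidueField R) (e '' {j : Fin l | (j : ℕ) < a})) : s R M e = c • s R M e' := by
  obtain ⟨r, rfl⟩ := IsLocalRing.residue_surjective c
  have hr : IsUnit r := by
    by_contra hu
    exact hc ((IsLocalRing.residue_eq_zero_iff r).mpr ((IsLocalRing.mem_maximalIdeal r).mpr hu))
  refine (Submodule.Quotient.eq _).mpr (Submodule.subset_span (Or.inl (Or.inr
    ⟨⟨e, adm R M e⟩, ⟨e', adm R M e'⟩, a, hr.unit, he, mem_spanBefore R M e a _ ?_, rfl⟩)))
  rw [IsUnit.unit_spec, show r • e' a = (IsLocalRing.residue R r) • e' a from (algebraMap_smul (ResidueField R) r (e' a)).symm]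
  exact h

theorem s_swap {l : ℕ} (e : Fin l → M) (a b : Fin l) (hab : (b : ℕ) + 1 = (a : ℕ)) :
    s R M (e ∘ Equiv.swap a b) = -s R M e := by
  have h : s R M e + s R M (e ∘ Equiv.swap a b) = 0 := by
    refine (Submodule.Quotient.mk_eq_zero _).mpr (Submodule.subset_span (Or.inr
      ⟨⟨e, adm R M e⟩, ⟨_, adm R M _⟩, a, b, hab, fun r hr => ?_, rfl, rfl⟩))
    rw [show r • e a = (IsLocalRing.residue R r) • e a from (algebraMap_smul (ResidueField R) r (e a)).symm,
      (IsLocalRing.residue_eq_zero_iff r).mpr hr, zero_smul]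
    exact Submodule.zero_mem _
  exact eq_neg_of_add_eq_zero_right h

theorem s_perm {l : ℕ} (σ : Equiv.Perm (Fin l)) : ∀ e : Fin l → M, ∃ c : ResidueField R, c ≠ 0 ∧ s R M (e ∘ σ) = c • s R M e := by
  rcases l with _ | l
  · intro e; exact ⟨1, one_ne_zero, by rw [one_smul]; congr 1; funext i; exact i.elim0⟩
  have hσ : σ ∈ Submonoid.closure (Set.range fun i : Fin l ↦ Equiv.swap i.castSucc i.succ) := by
    rw [Equiv.Perm.mclosure_swap_castSucc_succ]; trivial
  induction hσ using Submonoid.closure_induction with
  | mem x hx =>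
    obtain ⟨i, rfl⟩ := hx
    intro e
    refine ⟨-1, neg_ne_zero.mpr one_ne_zero, ?_⟩
    show s R M (e ∘ Equiv.swap i.castSucc i.succ) = _
    rw [Equiv.swap_comm, s_swap R M e i.succ i.castSucc (by simp), neg_smul, one_smul]
  | one => intro e; exact ⟨1, one_ne_zero, by simp⟩
  | mul x y _ _ hx hy =>
    intro e
    obtain ⟨c, hc, h1⟩ := hx e
    obtain ⟨d, hd, h2⟩ := hy (e ∘ x)
    exact ⟨d * c, mul_ne_zero hd hc, by rw [Equiv.Perm.coe_mul, ← Function.comp_assoc, h2, h1, smul_smul]⟩

theorem exists_mem_span {l : ℕ} (e : Fin l → M) (h : ¬ LinearIndependent (ResidueField R) e) :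
    ∃ a : Fin l, e a ∈ Submodule.span (ResidueField R) (e '' {j : Fin l | (j : ℕ) < a}) := by
  classical
  obtain ⟨g, hg, i, hi⟩ := Fintype.not_linearIndependent_iff.mp h
  let S := Finset.univ.filter fun j => g j ≠ 0
  have hS : S.Nonempty := ⟨i, by simp [S, hi]⟩
  obtain ⟨a, ha, hmax⟩ := S.exists_max_image id hS
  have ha' : g a ≠ 0 := (Finset.mem_filter.mp ha).2
  refine ⟨a, ?_⟩
  rw [← Finset.add_sum_erase _ _ (Finset.mem_univ a)] at hg
  have he : e a = -((g a)⁻¹ • ∑ j ∈ Finset.univ.erase a, g j • e j) := by
    rw [← smul_neg, ← eq_neg_of_add_eq_zero_left hg, smul_smul, inv_mul_cancel₀ ha', one_smul]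
  rw [he]
  refine Submodule.neg_mem _ (Submodule.smul_mem _ _ (Submodule.sum_mem _ fun j hj => ?_))
  by_cases hgj : g j = 0
  · rw [hgj, zero_smul]; exact Submodule.zero_mem _
  · refine Submodule.smul_mem _ _ (Submodule.subset_span ⟨j, ?_, rfl⟩)
    have h1 : j ≤ a := hmax j (Finset.mem_filter.mpr ⟨Finset.mem_univ j, hgj⟩)
    have h2 := Finset.ne_of_mem_erase hj
    show (j : ℕ) < a
    have : (j : ℕ) ≠ a := fun h => h2 (Fin.ext h)
    have : (j : ℕ) ≤ a := h1
    omega

theorem s_mem {l : ℕ} (b : Module.Basis (Fin l) (ResidueField R) M) :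
    ∀ (m : ℕ) (e : Fin l → M), Set.ncard {i : Fin l | b i ∉ Set.range e} = m → ∃ c : ResidueField R, s R M e = c • s R M b := by
  classical
  intro m
  induction m using Nat.strong_induction_on with
  | _ m ih =>
    intro e hm
    by_cases hli : LinearIndependent (ResidueField R) e
    · by_cases hz : ∀ i, b i ∈ Set.range e
      · choose σ hσ using hz
        have hinj : Function.Injective σ := fun x y h => b.injective (by rw [← hσ x, ← hσ y, h])
        let σ' : Equiv.Perm (Fin l) := Equiv.ofBijective σ (Finite.injective_iff_bijective.mp hinj)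
        obtain ⟨c, hc, hs⟩ := s_perm R M σ' e
        have : e ∘ σ' = b := funext hσ
        rw [this] at hs
        exact ⟨c⁻¹, by rw [hs, smul_smul, inv_mul_cancel₀ hc, one_smul]⟩
      · push Not at hz
        obtain ⟨i, hi⟩ := hz
        have hl : 0 < l := Fin.pos i
        haveI : Nonempty (Fin l) := ⟨i⟩
        let B := basisOfLinearIndependentOfCardEqFinrank hli (Module.finrank_eq_card_basis b).symm
        have hB : ∀ j, B j = e j := fun j => by simp [B]
        obtain ⟨j, hj, hjb⟩ : ∃ j, B.repr (b i) j ≠ 0 ∧ e j ∉ Set.range b := by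
          by_contra! hall
          have hmem : b i ∈ Submodule.span (ResidueField R) (b '' {x | x ≠ i}) := by
            have h0 : b i = ∑ j, B.repr (b i) j • e j := by
              conv_lhs => rw [← B.sum_repr (b i)]
              exact Finset.sum_congr rfl fun j _ => by rw [hB]
            rw [h0]
            refine Submodule.sum_mem _ fun j _ => ?_
            by_cases hj : B.repr (b i) j = 0
            · rw [hj, zero_smul]; exact Submodule.zero_mem _
            · obtain ⟨x, hx⟩ := hall j hj
              exact Submodule.smul_mem _ _ (Submodule.subset_span ⟨x, fun h => hi ⟨j, by rw [← hx, h]⟩, hx⟩)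
          exact b.linearIndependent.notMem_span_image (s := {x | x ≠ i}) (fun h : i ∈ {x : Fin l | x ≠ i} => h rfl) hmem
        let last : Fin l := ⟨l - 1, by omega⟩
        let σ : Equiv.Perm (Fin l) := Equiv.swap j last
        let e1 := e ∘ σ
        obtain ⟨c1, hc1, hs1⟩ := s_perm R M σ e
        let e2 : Fin l → M := Function.update e1 last (b i)
        have hσl : e1 last = e j := by simp [e1, σ]
        have hs2 : s R M e2 = B.repr (b i) j • s R M e1 := by
          refine s_replace R M e2 e1 last _ hj (fun x hx => Function.update_of_ne hx _ _) ?_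
          rw [hσl, show e2 last = b i from Function.update_self _ _ _]
          have : b i - B.repr (b i) j • e j = ∑ x ∈ Finset.univ.erase j, B.repr (b i) x • e x := by
            have h0 : ∑ x, B.repr (b i) x • e x = b i := by simp only [← hB]; exact B.sum_repr (b i)
            rw [← Finset.add_sum_erase _ _ (Finset.mem_univ j)] at h0
            exact (sub_eq_iff_eq_add'.mpr h0.symm)
          rw [this]
          refine Submodule.sum_mem _ fun x hx => Submodule.smul_mem _ _ (Submodule.subset_span ⟨σ x, ?_, ?_⟩)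
          · show (σ x : ℕ) < l - 1
            have hne : σ x ≠ last := fun h => Finset.ne_of_mem_erase hx (σ.injective (h.trans (by simp [σ])))
            have : (σ x : ℕ) ≠ l - 1 := fun h => hne (Fin.ext h)
            omega
          · have hne : σ x ≠ last := fun h => Finset.ne_of_mem_erase hx (σ.injective (h.trans (by simp [σ])))
            show e2 (σ x) = e x
            rw [show e2 (σ x) = e1 (σ x) from Function.update_of_ne hne _ _]
            show e (σ (σ x)) = e x
            rw [Equiv.swap_apply_self]
        have hlt : Set.ncard {x : Fin l | b x ∉ Set.range e2} < m := by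
          rw [← hm]
          refine Set.ncard_lt_ncard ⟨fun x hx h => ?_, fun h => h hi ⟨last, Function.update_self _ _ _⟩⟩ (Set.toFinite _)
          obtain ⟨y, hy⟩ := h
          refine hx ⟨σ y, ?_⟩
          have hne : σ y ≠ last := fun h' => hjb ⟨x, by
            rw [← hy, show y = j from σ.injective (h'.trans (by simp [σ]))]⟩
          rw [show e2 (σ y) = e1 (σ y) from Function.update_of_ne hne _ _]
          show e (σ (σ y)) = b x
          rw [Equiv.swap_apply_self, hy]
        obtain ⟨c, hc⟩ := ih _ hlt e2 rfl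
        refine ⟨c1⁻¹ * ((B.repr (b i) j)⁻¹ * c), ?_⟩
        rw [mul_smul, mul_smul, ← hc, hs2, smul_smul (B.repr (b i) j)⁻¹, inv_mul_cancel₀ hj, one_smul, hs1, smul_smul, inv_mul_cancel₀ hc1, one_smul]
    · obtain ⟨a, ha⟩ := exists_mem_span R M e hli
      exact ⟨0, by rw [s_zero R M e a ha, zero_smul]⟩

theorem det_equiv [Module.Finite (ResidueField R) M] :
    ∃ Φ : Det R M ≃ₗ[ResidueField R] (⋀[ResidueField R]^((Module.length R M).toNat) M),
      ∀ e : Adm R M (Module.length R M).toNat, Φ (symbol R M e) = exteriorPower.ιMulti (ResidueField R) ((Module.length R M).toNat) e.1 := by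
  classical
  set κ := ResidueField R
  have hl : (Module.length R M).toNat = Module.finrank κ M := by
    rw [Module.length_eq_of_surjective (R := κ) (S := R) IsLocalRing.residue_surjective, Module.length_eq_finrank κ M]
    simp
  unfold symbol
  unfold Det
  generalize (Module.length R M).toNat = l at hl ⊢
  let b : Module.Basis (Fin l) κ M := Module.finBasisOfFinrankEq κ M hl.symm
  let ι := exteriorPower.ιMulti κ l (M := M)
  let Ψ : Free R M l →ₗ[κ] ⋀[κ]^l M := Finsupp.linearCombination κ (fun e : Adm R M l => ι e.1)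
  have hΨ : ∀ e, Ψ (sym R M e) = ι e.1 := fun e => by simp [Ψ, sym]
  have hR2K : ∀ (e : Fin l → M) (a : ℕ) x, x ∈ spanBefore R M e a → x ∈ Submodule.span κ (e '' {j : Fin l | (j : ℕ) < a}) := by
    intro e a x hx
    exact Submodule.span_le_restrictScalars R κ _ hx
  have hdep : ∀ (e : Fin l → M) (a : Fin l) x, x ∈ Submodule.span κ (e '' {j : Fin l | (j : ℕ) < a}) → ι (Function.update e a x) = 0 := by
    intro e a x hx
    induction hx using Submodule.span_induction with
    | mem x h =>
      obtain ⟨j, hj, rfl⟩ := h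
      have hne : j ≠ a := fun h => by rw [h] at hj; exact lt_irrefl (a : ℕ) hj
      exact AlternatingMap.map_eq_zero_of_eq ι _ (i := j) (j := a) (by simp [hne]) hne
    | zero => exact ι.map_update_zero e a
    | add x y _ _ hx hy => rw [ι.map_update_add, hx, hy, add_zero]
    | smul c x _ hx => rw [ι.map_update_smul, hx, smul_zero]
  have hkill : Submodule.span κ (relSet R M l) ≤ LinearMap.ker Ψ := by
    refine Submodule.span_le.mpr ?_
    rintro x ((⟨e, a, ha, rfl⟩ | ⟨e, e', a, c, he, hc, rfl⟩) | ⟨e, e', a, b', hab, -, he, rfl⟩) <;> rw [SetLike.mem_coe, LinearMap.mem_ker]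
    · rw [hΨ, ← Function.update_eq_self a e.1]
      exact hdep _ _ _ (hR2K _ _ _ ha)
    · rw [map_sub, map_smul, hΨ, hΨ]
      have h1 : e'.1 = Function.update e.1 a (e'.1 a) := by
        funext j
        rcases eq_or_ne j a with rfl | hj
        · rw [Function.update_self]
        · rw [Function.update_of_ne hj, he j hj]
      have h2 := hdep _ _ _ (hR2K _ _ _ hc)
      rw [ι.map_update_sub, Function.update_eq_self, show (c : R) • e'.1 a = (IsLocalRing.residue R (c : R)) • e'.1 a from (algebraMap_smul κ (c : R) _).symm, ι.map_update_smul, ← h1] at h2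
      exact h2
    · have hne : a ≠ b' := fun h => by rw [h] at hab; omega
      rw [map_add, hΨ, hΨ, he, ι.map_swap e.1 hne, add_neg_cancel]
  let F : DetOfLen R M l →ₗ[κ] ⋀[κ]^l M := Submodule.liftQ _ Ψ hkill
  have hF : ∀ e, F (Submodule.Quotient.mk (sym R M e)) = ι e.1 := hΨ
  have hrank : Module.finrank κ (⋀[κ]^l M) = 1 := by rw [exteriorPower.finrank_eq, ← hl, Nat.choose_self]
  have hspan : ∀ z : DetOfLen R M l, z ∈ Submodule.span κ {s R M b} := by
    intro z
    obtain ⟨z, rfl⟩ := Submodule.Quotient.mk_surjective _ z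
    induction z using Finsupp.induction_linear with
    | zero => exact Submodule.zero_mem _
    | add x y hx hy => rw [Submodule.Quotient.mk_add]; exact Submodule.add_mem _ hx hy
    | single e r =>
      rw [show Finsupp.single e r = r • sym R M e by simp [sym], Submodule.Quotient.mk_smul]
      refine Submodule.smul_mem _ _ ?_
      obtain ⟨c, hc⟩ := s_mem R M b _ e.1 rfl
      exact Submodule.mem_span_singleton.mpr ⟨c, hc.symm⟩
  have hne : ι b ≠ 0 := fun h => by
    have hs := exteriorPower.ιMulti_span κ l M
    have : (⊤ : Submodule κ (⋀[κ]^l M)) = ⊥ := by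
      rw [← hs, Submodule.span_eq_bot]
      rintro _ ⟨v, rfl⟩
      obtain ⟨c, hc⟩ := s_mem R M b _ v rfl
      have := congrArg F hc
      rw [map_smul, show F (s R M v) = ι v from hF _, show F (s R M b) = ι b from hF _, h, smul_zero] at this
      exact this
    have h1 := congrArg (fun S : Submodule κ _ => Module.finrank κ S) this
    simp only [finrank_top, finrank_bot, hrank] at h1
    exact one_ne_zero h1
  have hFi : Function.Injective F := by
    refine (injective_iff_map_eq_zero F).mpr fun z hz => ?_
    obtain ⟨c, rfl⟩ := Submodule.mem_span_singleton.mp (hspan z)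
    rw [map_smul, show F (s R M b) = ι b from hF _] at hz
    rw [(smul_eq_zero.mp hz).resolve_right hne, zero_smul]
  have hFs : Function.Surjective F := by
    refine LinearMap.range_eq_top.mp (Submodule.eq_top_of_finrank_eq ?_)
    rw [hrank]
    refine le_antisymm (by simpa [hrank] using Submodule.finrank_le (LinearMap.range F)) (Nat.one_le_iff_ne_zero.mpr fun h => ?_)
    rw [Submodule.finrank_eq_zero] at h
    exact hne ((hF ⟨b, adm R M b⟩).symm.trans (by rw [LinearMap.range_eq_bot.mp h]; rfl))
  exact ⟨LinearEquiv.ofBijective F ⟨hFi, hFs⟩, hF⟩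

end Groth.Agent.DetVec8
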