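import Mathlib
import Groth.Prelude.Def_CycDet

set_option autoImplicit false
universe u v

namespace Groth.Agent.DetRank8
open IsLocalRing CycDet

variable (R : Type u) [CommRing R] [IsLocalRing R] (M : Type v) [AddCommGroup M] [Module R M]

theorem sb_le {l : ℕ} {e : Fin l → M} {j : ℕ} {P : Submodule R M} (h : ∀ k : Fin l, (k : ℕ) < j → e k ∈ P) :
    spanBefore R M e j ≤ P := Submodule.span_le.mpr (by rintro _ ⟨k, hk, rfl⟩; exact h k hk)

theorem mem_sb {l : ℕ} (e : Fin l → M) {j : ℕ} (k : Fin l) (hk : (k : ℕ) < j) : e k ∈ spanBefore R M e j :=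
  Submodule.subset_span ⟨k, hk, rfl⟩

theorem sb_mono {l : ℕ} (e : Fin l → M) {i j : ℕ} (h : i ≤ j) : spanBefore R M e i ≤ spanBefore R M e j :=
  sb_le R M fun k hk => mem_sb R M e k (lt_of_lt_of_le hk h)

noncomputable def s {l : ℕ} (e : Adm R M l) : DetOfLen R M l := Submodule.Quotient.mk (sym R M e)

theorem s_rel {l : ℕ} (e e' : Adm R M l) (a : Fin l) (c : Rˣ) (hj : ∀ j, j ≠ a → e.1 j = e'.1 j)
    (h : e.1 a - (c : R) • e'.1 a ∈ spanBefore R M e.1 a) : s R M e = IsLocalRing.residue R (c : R) • s R M e' := by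
  unfold s
  rw [← Submodule.Quotient.mk_smul, Submodule.Quotient.eq]
  exact Submodule.subset_span (Or.inl (Or.inr ⟨e, e', a, c, hj, h, rfl⟩))

theorem s_swap {l : ℕ} (e e' : Adm R M l) (a b : Fin l) (hab : (b : ℕ) + 1 = (a : ℕ))
    (h : ∀ r ∈ maximalIdeal R, r • e.1 a ∈ spanBefore R M e.1 b) (he : e'.1 = e.1 ∘ Equiv.swap a b) :
    s R M e = (-1 : ResidueField R) • s R M e' := by
  have h0 : s R M e + s R M e' = 0 := by
    unfold s
    rw [← Submodule.Quotient.mk_add, Submodule.Quotient.mk_eq_zero]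
    exact Submodule.subset_span (Or.inr ⟨e, e', a, b, hab, h, he, rfl⟩)
  rw [neg_smul, one_smul]
  exact eq_neg_of_add_eq_zero_left h0

theorem spans {l : ℕ} (hl : Module.length R M = (l : ℕ∞)) (e : Fin l → M)
    (hG : ∀ a : Fin l, e a ∉ spanBefore R M e a) : spanBefore R M e l = ⊤ := by
  have key : ∀ j, j ≤ l → (j : ℕ∞) ≤ Order.height (spanBefore R M e j) := by
    intro j
    induction j with
    | zero => intro _; simp
    | succ j ih =>
      intro hj
      have hlt : spanBefore R M e j < spanBefore R M e (j + 1) :=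
        lt_of_le_of_ne (sb_mono R M e (Nat.le_succ j)) fun h => hG ⟨j, by omega⟩ (h ▸ mem_sb R M e ⟨j, by omega⟩ (Nat.lt_succ_self j))
      have h2 := le_trans (add_le_add_left (ih (by omega)) 1) (Order.height_add_one_le hlt)
      exact_mod_cast h2
  by_contra h
  have h1 := le_trans (add_le_add_left (key l le_rfl) 1) (Order.height_add_one_le (lt_top_iff_ne_top.mpr h))
  rw [← Module.length_submodule, Module.length_top, hl] at h1
  have : ((l + 1 : ℕ) : ℕ∞) ≤ (l : ℕ∞) := by exact_mod_cast h1
  exact absurd (ENat.coe_le_coe.mp this) (by omega)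

theorem move_down {l : ℕ} (i : Fin l) (x : M) (d : ℕ) : ∀ (g : Adm R M l) (a : Fin l), (a : ℕ) = i + d → g.1 a = x →
    (∀ r ∈ maximalIdeal R, r • x ∈ spanBefore R M g.1 i) →
    ∃ (g' : Adm R M l) (c : ResidueField R), s R M g = c • s R M g' ∧ g'.1 i = x ∧ ∀ j : Fin l, (j : ℕ) < i → g'.1 j = g.1 j := by
  induction d with
  | zero => intro g a ha hx _; exact ⟨g, 1, (one_smul _ _).symm, by rw [← hx, show a = i from Fin.ext ha], fun _ _ => rfl⟩
  | succ d ih =>
    intro g a ha hx hm
    let b : Fin l := ⟨i + d, by omega⟩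
    have hab : (b : ℕ) + 1 = (a : ℕ) := by show (i : ℕ) + d + 1 = a; omega
    let f := g.1 ∘ Equiv.swap a b
    have hne : ∀ j : Fin l, (j : ℕ) < b → f j = g.1 j := fun j hj => by
      show g.1 (Equiv.swap a b j) = g.1 j
      rw [Equiv.swap_apply_of_ne_of_ne (fun h => by rw [h] at hj; omega) (fun h => by rw [h] at hj; omega)]
    have hfa : f a = g.1 b := by show g.1 (Equiv.swap a b a) = _; rw [Equiv.swap_apply_left]
    have hfb : f b = x := by show g.1 (Equiv.swap a b b) = _; rw [Equiv.swap_apply_right, hx]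
    have hbi : (i : ℕ) ≤ b := Nat.le_add_right _ _
    have hsame : ∀ j : ℕ, j ≤ b → spanBefore R M g.1 j ≤ spanBefore R M f j := fun j hj =>
      sb_le R M fun k hk => by rw [← hne k (by omega)]; exact mem_sb R M f k hk
    have hadm : IsAdmissible R M f := by
      intro j r hr
      rcases lt_trichotomy (j : ℕ) b with h | h | h
      · rw [hne j h]; exact hsame j h.le (g.2 j r hr)
      · rw [show j = b from Fin.ext h, hfb]
        exact sb_mono R M f hbi (hsame i hbi (hm r hr))
      · rcases eq_or_ne j a with rfl | hja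
        · rw [hfa]; exact sb_mono R M f (show (b : ℕ) ≤ j by omega) (hsame b le_rfl (g.2 b r hr))
        · have hj : (a : ℕ) < j := by
            have : (j : ℕ) ≠ a := fun h' => hja (Fin.ext h')
            omega
          rw [show f j = g.1 j from by show g.1 (Equiv.swap a b j) = _; rw [Equiv.swap_apply_of_ne_of_ne hja (fun h' => by rw [h'] at h; omega)]]
          refine sb_le R M (fun k hk => ?_) (g.2 j r hr)
          rw [show g.1 k = f (Equiv.swap a b k) by show g.1 k = g.1 (Equiv.swap a b (Equiv.swap a b k)); rw [Equiv.swap_apply_self]]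
          refine mem_sb R M f _ ?_
          rcases eq_or_ne k a with rfl | hka
          · rw [Equiv.swap_apply_left]; omega
          · rcases eq_or_ne k b with rfl | hkb
            · rw [Equiv.swap_apply_right]; omega
            · rw [Equiv.swap_apply_of_ne_of_ne hka hkb]; exact hk
    have hs := s_swap R M g ⟨f, hadm⟩ a b hab (fun r hr => by rw [hx]; exact sb_mono R M g.1 hbi (hm r hr)) rfl
    obtain ⟨g', c, hc, h1, h2⟩ := ih ⟨f, hadm⟩ b rfl hfb (fun r hr => hsame i hbi (hm r hr))
    exact ⟨g', -1 * c, by rw [hs, hc, smul_smul], h1, fun j hj => (h2 j hj).trans (hne j (by omega))⟩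

theorem step {l : ℕ} (hl : Module.length R M = (l : ℕ∞)) (e f : Adm R M l) (hG : ∀ a : Fin l, f.1 a ∉ spanBefore R M f.1 a)
    (i : Fin l) (hag : ∀ j : Fin l, (j : ℕ) < i → e.1 j = f.1 j) :
    s R M e = 0 ∨ ∃ (e' : Adm R M l) (c : ResidueField R), s R M e = c • s R M e' ∧ ∀ j : Fin l, (j : ℕ) ≤ i → e'.1 j = f.1 j := by
  classical
  by_cases hGe : ∀ a : Fin l, e.1 a ∉ spanBefore R M e.1 a
  swap
  · push Not at hGe
    obtain ⟨a, ha⟩ := hGe
    left
    unfold s
    rw [Submodule.Quotient.mk_eq_zero]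
    exact Submodule.subset_span (Or.inl (Or.inl ⟨e, a, ha, rfl⟩))
  right
  set x := f.1 i with hx
  have heq : spanBefore R M f.1 i = spanBefore R M e.1 i :=
    le_antisymm (sb_le R M fun k hk => by rw [← hag k hk]; exact mem_sb R M e.1 k hk)
      (sb_le R M fun k hk => by rw [hag k hk]; exact mem_sb R M f.1 k hk)
  have hxe : x ∉ spanBefore R M e.1 i := heq ▸ hG i
  have hxm : ∀ r ∈ maximalIdeal R, r • x ∈ spanBefore R M e.1 i := fun r hr => heq ▸ f.2 i r hr
  have hex : ∃ n, x ∈ spanBefore R M e.1 n := ⟨l, by rw [spans R M hl e.1 hGe]; trivial⟩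
  have hn1 : (i : ℕ) < Nat.find hex := by
    by_contra h
    exact hxe (sb_mono R M e.1 (by omega) (Nat.find_spec hex))
  have hnl : Nat.find hex ≤ l := Nat.find_le (by rw [spans R M hl e.1 hGe]; trivial)
  obtain ⟨a, ha⟩ : ∃ a : Fin l, (a : ℕ) + 1 = Nat.find hex := ⟨⟨Nat.find hex - 1, by omega⟩, by simp only; omega⟩
  have hai : (i : ℕ) ≤ a := by omega
  have hxa : x ∉ spanBefore R M e.1 a := Nat.find_min hex (by omega)
  have hins : spanBefore R M e.1 ((a : ℕ) + 1) = Submodule.span R (insert (e.1 a) (e.1 '' {j : Fin l | (j : ℕ) < a})) := by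
    rw [← Set.image_insert_eq]
    unfold spanBefore
    congr 2
    ext j
    simp only [Set.mem_insert_iff, Set.mem_ofPred_eq, Fin.ext_iff]
    omega
  have hx1 := Nat.find_spec hex
  rw [← ha, hins, Submodule.mem_span_insert] at hx1
  obtain ⟨r, y, hy, hxy⟩ := hx1
  have hr : IsUnit r := by
    by_contra hu
    refine hxa ?_
    rw [hxy]
    exact Submodule.add_mem _ (e.2 a r ((IsLocalRing.mem_maximalIdeal r).mpr hu)) hy
  obtain ⟨r, rfl⟩ := hr
  let f1 := Function.update e.1 a x
  have hf1 : ∀ j : Fin l, j ≠ a → f1 j = e.1 j := fun j hj => Function.update_of_ne hj _ _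
  have hf1a : f1 a = x := Function.update_self _ _ _
  have hlow : ∀ j : ℕ, j ≤ a → spanBefore R M e.1 j ≤ spanBefore R M f1 j := fun j hj =>
    sb_le R M fun k hk => by rw [← hf1 k (fun h => by rw [h] at hk; omega)]; exact mem_sb R M f1 k hk
  have hall : ∀ j : ℕ, spanBefore R M e.1 j ≤ spanBefore R M f1 j := by
    intro j
    rcases le_or_gt j (a : ℕ) with h | h
    · exact hlow j h
    · refine sb_le R M fun k hk => ?_
      rcases eq_or_ne k a with rfl | hka
      · have he : e.1 k = (↑r⁻¹ : R) • (x - y) := by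
          rw [hxy, add_sub_cancel_right, smul_smul, Units.inv_mul, one_smul]
        rw [he]
        refine Submodule.smul_mem _ _ (Submodule.sub_mem _ ?_ (sb_mono R M f1 h.le (hlow k le_rfl hy)))
        rw [← hf1a]; exact mem_sb R M f1 k h
      · rw [← hf1 k hka]; exact mem_sb R M f1 k hk
  have hadm : IsAdmissible R M f1 := by
    intro j t ht
    rcases eq_or_ne j a with rfl | hja
    · rw [hf1a]; exact hall _ (sb_mono R M e.1 hai (hxm t ht))
    · rw [hf1 j hja]; exact hall _ (e.2 j t ht)
  have hs := s_rel R M e ⟨f1, hadm⟩ a r⁻¹ (fun j hj => (hf1 j hj).symm) (by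
    show e.1 a - (↑r⁻¹ : R) • f1 a ∈ _
    rw [hf1a, hxy, smul_add, smul_smul, Units.inv_mul, one_smul, sub_add_cancel_left]
    exact Submodule.neg_mem _ (Submodule.smul_mem _ _ hy))
  obtain ⟨g', c, hc, h1, h2⟩ := move_down R M i x ((a : ℕ) - i) ⟨f1, hadm⟩ a (by omega) hf1a (fun t ht => hlow i hai (hxm t ht))
  refine ⟨g', _ * c, by rw [hs, hc, smul_smul], fun j hj => ?_⟩
  rcases eq_or_lt_of_le hj with h | h
  · rw [show j = i from Fin.ext h, h1]
  · rw [h2 j h]
    show f1 j = _
    rw [hf1 j (fun hh => by rw [hh] at h; omega), hag j h]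

theorem rank_le (hM : IsFiniteLength R M) : Module.rank (ResidueField R) (Det R M) ≤ 1 := by
  classical
  have hfin : Module.length R M ≠ ⊤ := Module.length_ne_top_iff.mpr hM
  have hl : Module.length R M = ((Module.length R M).toNat : ℕ∞) := (ENat.coe_toNat hfin).symm
  unfold Det
  generalize (Module.length R M).toNat = l at hl ⊢
  rw [rank_le_one_iff]
  by_cases hex : ∃ f : Adm R M l, ∀ a : Fin l, f.1 a ∉ spanBefore R M f.1 a
  · obtain ⟨f, hG⟩ := hex
    refine ⟨s R M f, fun z => ?_⟩
    have key : ∀ d i, i + d = l → ∀ e : Adm R M l, (∀ j : Fin l, (j : ℕ) < i → e.1 j = f.1 j) → ∃ c : ResidueField R, c • s R M f = s R M e := by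
      intro d
      induction d with
      | zero =>
        intro i hi e he
        exact ⟨1, by rw [one_smul, show e = f from Subtype.ext (funext fun j => he j (by omega))]⟩
      | succ d ih =>
        intro i hi e he
        rcases step R M hl e f hG ⟨i, by omega⟩ he with h0 | ⟨e', c, hc, he'⟩
        · exact ⟨0, by rw [zero_smul, h0]⟩
        · obtain ⟨c', hc'⟩ := ih (i + 1) (by omega) e' (fun j hj => he' j (show (j : ℕ) ≤ i by omega))
          exact ⟨c * c', by rw [mul_smul, hc', hc]⟩
    obtain ⟨z, rfl⟩ := Submodule.Quotient.mk_surjective _ z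
    induction z using Finsupp.induction_linear with
    | zero => exact ⟨0, by rw [zero_smul, Submodule.Quotient.mk_zero]⟩
    | add x y hx hy =>
      obtain ⟨c, hc⟩ := hx
      obtain ⟨d, hd⟩ := hy
      exact ⟨c + d, by rw [add_smul, hc, hd, Submodule.Quotient.mk_add]⟩
    | single e r =>
      obtain ⟨c, hc⟩ := key l 0 (by omega) e (fun j hj => absurd hj (Nat.not_lt_zero _))
      refine ⟨r * c, ?_⟩
      rw [mul_smul, hc, show Finsupp.single e r = r • sym R M e by simp [sym], Submodule.Quotient.mk_smul]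
      rfl
  · refine ⟨0, fun z => ⟨0, ?_⟩⟩
    rw [zero_smul]
    obtain ⟨z, rfl⟩ := Submodule.Quotient.mk_surjective _ z
    induction z using Finsupp.induction_linear with
    | zero => rfl
    | add x y hx hy => rw [Submodule.Quotient.mk_add, ← hx, ← hy, add_zero]
    | single e r =>
      push Not at hex
      obtain ⟨a, ha⟩ := hex e
      rw [show Finsupp.single e r = r • sym R M e by simp [sym], eq_comm, Submodule.Quotient.mk_eq_zero]
      exact Submodule.smul_mem _ _ (Submodule.subset_span (Or.inl (Or.inl ⟨e, a, ha, rfl⟩)))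

end Groth.Agent.DetRank8
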